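import Cfsg.Agent.Lib.Sporadic.SuzData.SuzTable

/-!
# Relators act trivially

Machine-generated data and the kernel checks on it.
-/

set_option maxRecDepth 100000

namespace CfsgLib.Sporadic.CosetCert.SuzData

theorem table_word0 : table.wordOK (certH.word 0) 0 1782 = true := by decide +kernel
theorem table_word1 : table.wordOK (certH.word 1) 0 1782 = true := by decide +kernel
theorem table_word2 : table.wordOK (certH.word 2) 0 1782 = true := by decide +kernel
theorem table_word3 : table.wordOK (certH.word 3) 0 1782 = true := by decide +kernel
theorem table_word4 : table.wordOK (certH.word 4) 0 1782 = true := by decide +kernel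
theorem table_word5 : table.wordOK (certH.word 5) 0 1782 = true := by decide +kernel
theorem table_word6 : table.wordOK (certH.word 6) 0 1782 = true := by decide +kernel
theorem table_word7 : table.wordOK (certH.word 7) 0 1782 = true := by decide +kernel
theorem table_word8 : table.wordOK (certH.word 8) 0 1782 = true := by decide +kernel
theorem table_word9 : table.wordOK (certH.word 9) 0 1782 = true := by decide +kernel
theorem table_word10 : table.wordOK (certH.word 10) 0 1782 = true := by decide +kernel
theorem table_word11 : table.wordOK (certH.word 11) 0 1782 = true := by decide +kernel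
theorem table_word12 : table.wordOK (certH.word 12) 0 1782 = true := by decide +kernel
theorem table_word13 : table.wordOK (certH.word 13) 0 1782 = true := by decide +kernel
theorem table_word14 : table.wordOK (certH.word 14) 0 1782 = true := by decide +kernel
theorem table_word15 : table.wordOK (certH.word 15) 0 1782 = true := by decide +kernel
theorem table_word16 : table.wordOK (certH.word 16) 0 1782 = true := by decide +kernel
theorem table_word17 : table.wordOK (certH.word 17) 0 1782 = true := by decide +kernel
theorem table_word18 : table.wordOK (certH.word 18) 0 1782 = true := by decide +kernel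
theorem table_word19 : table.wordOK (certH.word 19) 0 1782 = true := by decide +kernel
theorem table_word20 : table.wordOK (certH.word 20) 0 1782 = true := by decide +kernel
theorem table_word21 : table.wordOK (certH.word 21) 0 1782 = true := by decide +kernel
theorem table_word22 : table.wordOK (certH.word 22) 0 1782 = true := by decide +kernel
theorem table_word23 : table.wordOK (certH.word 23) 0 1782 = true := by decide +kernel
theorem table_word24 : table.wordOK (certH.word 24) 0 1782 = true := by decide +kernel
theorem table_word25 : table.wordOK (certH.word 25) 0 1782 = true := by decide +kernel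
theorem table_word26 : table.wordOK (certH.word 26) 0 1782 = true := by decide +kernel
theorem table_word27 : table.wordOK (certH.word 27) 0 1782 = true := by decide +kernel
theorem table_word28 : table.wordOK (certH.word 28) 0 1782 = true := by decide +kernel
theorem table_word29 : table.wordOK (certH.word 29) 0 1782 = true := by decide +kernel
theorem table_word30 : table.wordOK (certH.word 30) 0 1782 = true := by decide +kernel
theorem table_word31 : table.wordOK (certH.word 31) 0 1782 = true := by decide +kernel
theorem table_word32 : table.wordOK (certH.word 32) 0 1782 = true := by decide +kernel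

theorem table_relators : ∀ i < certH.nr, ∀ u < table.N,
    table.run (certH.word i).1 (certH.word i).2 u = u := by
  intro i hi u hu
  change i < 33 at hi
  match i, hi with
  | 0, _ => exact wordOK_spec table_word0 u (Nat.zero_le _) hu
  | 1, _ => exact wordOK_spec table_word1 u (Nat.zero_le _) hu
  | 2, _ => exact wordOK_spec table_word2 u (Nat.zero_le _) hu
  | 3, _ => exact wordOK_spec table_word3 u (Nat.zero_le _) hu
  | 4, _ => exact wordOK_spec table_word4 u (Nat.zero_le _) hu
  | 5, _ => exact wordOK_spec table_word5 u (Nat.zero_le _) hu
  | 6, _ => exact wordOK_spec table_word6 u (Nat.zero_le _) hu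
  | 7, _ => exact wordOK_spec table_word7 u (Nat.zero_le _) hu
  | 8, _ => exact wordOK_spec table_word8 u (Nat.zero_le _) hu
  | 9, _ => exact wordOK_spec table_word9 u (Nat.zero_le _) hu
  | 10, _ => exact wordOK_spec table_word10 u (Nat.zero_le _) hu
  | 11, _ => exact wordOK_spec table_word11 u (Nat.zero_le _) hu
  | 12, _ => exact wordOK_spec table_word12 u (Nat.zero_le _) hu
  | 13, _ => exact wordOK_spec table_word13 u (Nat.zero_le _) hu
  | 14, _ => exact wordOK_spec table_word14 u (Nat.zero_le _) hu
  | 15, _ => exact wordOK_spec table_word15 u (Nat.zero_le _) hu
  | 16, _ => exact wordOK_spec table_word16 u (Nat.zero_le _) hu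
  | 17, _ => exact wordOK_spec table_word17 u (Nat.zero_le _) hu
  | 18, _ => exact wordOK_spec table_word18 u (Nat.zero_le _) hu
  | 19, _ => exact wordOK_spec table_word19 u (Nat.zero_le _) hu
  | 20, _ => exact wordOK_spec table_word20 u (Nat.zero_le _) hu
  | 21, _ => exact wordOK_spec table_word21 u (Nat.zero_le _) hu
  | 22, _ => exact wordOK_spec table_word22 u (Nat.zero_le _) hu
  | 23, _ => exact wordOK_spec table_word23 u (Nat.zero_le _) hu
  | 24, _ => exact wordOK_spec table_word24 u (Nat.zero_le _) hu
  | 25, _ => exact wordOK_spec table_word25 u (Nat.zero_le _) hu
  | 26, _ => exact wordOK_spec table_word26 u (Nat.zero_le _) hu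
  | 27, _ => exact wordOK_spec table_word27 u (Nat.zero_le _) hu
  | 28, _ => exact wordOK_spec table_word28 u (Nat.zero_le _) hu
  | 29, _ => exact wordOK_spec table_word29 u (Nat.zero_le _) hu
  | 30, _ => exact wordOK_spec table_word30 u (Nat.zero_le _) hu
  | 31, _ => exact wordOK_spec table_word31 u (Nat.zero_le _) hu
  | 32, _ => exact wordOK_spec table_word32 u (Nat.zero_le _) hu
  | j + 33, h => exact absurd h (by omega)

end CfsgLib.Sporadic.CosetCert.SuzData
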