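import Cfsg.Agent.Lib.Sporadic.CosetCertGroup

/-!
# Coset enumeration certificate SuzData.certC

Machine-generated data and the kernel checks on it.
-/

set_option maxRecDepth 100000

namespace CfsgLib.Sporadic.CosetCert.SuzData

/-- Coset enumeration certificate `suzB`: 5 cosets, 5 nodes, 10 facts. -/
def certC : Cert where
  N := 5
  M := 5
  nl := 2
  nr := 3
  fuel := 1
  vb := 8
  rb := 4
  iv := 0x210
  words := [(2, 0x0), (10, 0x101010101), (2, 0x11), (1, 0x0)]
  slots := (.leaf 0xa04903000702804000603501000300402000201100)
  just := (.leaf 0x40c040480008001b00000000000020204c0000000000000000000000000000020002c0000000000008080300000000000000000000000000000000019)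
  parent := (.leaf 0xa008004002000)

theorem certC_keys0 : certC.keysOK 0 15 = true := by decide +kernel
theorem certC_closed0 : certC.closedFrom 11 0 5 = true := by decide +kernel

theorem certC_valid : certC.Valid :=
  valid_of
    (fun k hk => (keysOK_spec certC_keys0) k (Nat.zero_le _) hk)
    (fun u hu => ⟨11, (closedFrom_spec certC_closed0) u (Nat.zero_le _) hu⟩)
    (by decide +kernel) (by decide +kernel)

end CfsgLib.Sporadic.CosetCert.SuzData
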